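import Groth.Agent.EGA2Misc.RelProjDom
import Mathlib.RingTheory.GradedAlgebra.RingHom

/-!
The pointed cone over an affine open; maps everywhere defined.
-/

set_option autoImplicit false

universe u

open CategoryTheory AlgebraicGeometry Opposite DirectSum
open scoped HomogeneousIdeal

namespace Groth.Agent.ConeDom

/-- A point outside `V(A_+)` misses a homogeneous element of positive degree. -/
theorem exists_hom_notMem {A : Type u} [CommRing A] {𝒜 : ℕ → AddSubgroup A} [GradedRing 𝒜] {I : Ideal A}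
    (h : ¬ (HomogeneousIdeal.irrelevant 𝒜).toIdeal ≤ I) : ∃ (i : ℕ) (a : A), 0 < i ∧ a ∈ 𝒜 i ∧ a ∉ I := by
  classical
  obtain ⟨a, ha, haI⟩ := SetLike.not_le_iff_exists.1 h
  by_contra hne
  push Not at hne
  refine haI ?_
  rw [← DirectSum.sum_support_decompose 𝒜 a]
  refine sum_mem fun i hi => ?_
  rcases Nat.eq_zero_or_pos i with rfl | hi0
  · replace ha := (HomogeneousIdeal.mem_irrelevant_iff 𝒜 a).1 ha
    rw [GradedRing.proj_apply] at ha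
    rw [ha]; exact zero_mem _
  · exact hne i _ hi0 (Subtype.prop _)

variable {Y : Scheme.{u}} (𝒮 : RelProj.QCGrAlg Y)

theorem mem_vertexCompl_iff {U : Y.Opens} (hU : IsAffineOpen U) (z : Spec (𝒮.presheaf.obj (op U))) :
    z ∈ RelCone.vertexCompl (𝒮.deg U hU) ↔ ¬ (HomogeneousIdeal.irrelevant (𝒮.deg U hU)).toIdeal ≤ z.asIdeal :=
  Iff.rfl

theorem vertexCompl_basicOpen {U : Y.Opens} (hU : IsAffineOpen U) (r : Γ(Y, U))
    {t : Spec (𝒮.presheaf.obj (op (Y.basicOpen r)))}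
    (ht : t ∈ RelCone.vertexCompl (𝒮.deg _ (hU.basicOpen r))) :
    Spec.map (𝒮.presheaf.map (homOfLE (Y.basicOpen_le r)).op) t ∈ RelCone.vertexCompl (𝒮.deg U hU) := by
  classical
  set ρ := 𝒮.res hU (hU.basicOpen r) (Y.basicOpen_le r)
  obtain ⟨i, a, hi, ha, hat⟩ := exists_hom_notMem ht
  letI := (𝒮.presheaf.map (homOfLE (Y.basicOpen_le r)).op).hom.toAlgebra
  haveI : IsLocalization.Away ((𝒮.str.app (op U)).hom r) (𝒮.presheaf.obj (op (Y.basicOpen r))) := 𝒮.isQC U hU r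
  obtain ⟨n, b, hb⟩ := IsLocalization.Away.surj ((𝒮.str.app (op U)).hom r) a
  have hr0 : ρ ((𝒮.str.app (op U)).hom r) ^ n ∈ 𝒮.deg _ (hU.basicOpen r) 0 := by
    simpa using SetLike.pow_mem_graded n (ρ.map_mem (𝒮.str_mem U hU r))
  have hρb : ρ b ∈ 𝒮.deg _ (hU.basicOpen r) i := by
    have h1 : a * ρ ((𝒮.str.app (op U)).hom r) ^ n = ρ b := hb
    rw [← h1]
    simpa using SetLike.mul_mem_graded ha hr0
  have hu : IsUnit (ρ ((𝒮.str.app (op U)).hom r)) :=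
    IsLocalization.Away.algebraMap_isUnit (S := (𝒮.presheaf.obj (op (Y.basicOpen r)))) ((𝒮.str.app (op U)).hom r)
  intro hz
  let bi : 𝒮.presheaf.obj (op U) := ((DirectSum.decompose (𝒮.deg U hU) b i : 𝒮.deg U hU i) : 𝒮.presheaf.obj (op U))
  have hbi : bi ∈ (HomogeneousIdeal.irrelevant (𝒮.deg U hU)).toIdeal :=
    HomogeneousIdeal.mem_irrelevant_of_mem _ hi (DirectSum.decompose (𝒮.deg U hU) b i).2
  have h2 : ρ bi ∈ t.asIdeal := hz hbi
  have h3 : ρ bi = ρ b := by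
    show ρ ((DirectSum.decompose (𝒮.deg U hU) b i : 𝒮.deg U hU i) : 𝒮.presheaf.obj (op U)) = ρ b
    rw [GradedRingHom.map_directSumDecompose, DirectSum.decompose_of_mem_same _ hρb]
  rw [h3] at h2
  have h1 : a * ρ ((𝒮.str.app (op U)).hom r) ^ n = ρ b := hb
  rw [← h1] at h2
  exact hat ((Ideal.mul_unit_mem_iff_mem _ (hu.pow n)).1 h2)

theorem vertexCompl_res {U V : Y.Opens} (hU : IsAffineOpen U) (hV : IsAffineOpen V) (hle : V ≤ U)
    {t : Spec (𝒮.presheaf.obj (op V))}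
    (ht : Spec.map (𝒮.presheaf.map (homOfLE hle).op) t ∈ RelCone.vertexCompl (𝒮.deg U hU)) :
    t ∈ RelCone.vertexCompl (𝒮.deg V hV) := fun h =>
  ht fun _ ha => h (EGA2Misc.map_irrelevant_mem (𝒮.res hU hV hle) ha)

/-- The pointed cone meets a chart in the complement of the vertex. -/
theorem mem_pointedCone_iff {U : Y.Opens} (hU : IsAffineOpen U) (z : Spec (𝒮.presheaf.obj (op U))) :
    𝒮.toQCAlg.ι U hU z ∈ RelCone.pointedCone 𝒮 ↔ z ∈ RelCone.vertexCompl (𝒮.deg U hU) := by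
  refine ⟨fun h => ?_, fun h => TopologicalSpace.Opens.mem_iSup.2 ⟨⟨U, hU⟩, z, h, rfl⟩⟩
  obtain ⟨⟨V, hV⟩, w, hw, hwz⟩ := TopologicalSpace.Opens.mem_iSup.1 h
  have hπ : ∀ (W : Y.Opens) (hW : IsAffineOpen W) (v : Spec (𝒮.presheaf.obj (op W))),
      𝒮.toQCAlg.π (𝒮.toQCAlg.ι W hW v) ∈ W := fun W hW v => by
    have : 𝒮.toQCAlg.ι W hW v ∈ 𝒮.toQCAlg.π ⁻¹ᵁ W := by
      rw [RelSpec.QCAlg.π_preimage _ W hW]; exact ⟨v, rfl⟩
    exact this
  obtain ⟨f, g, hfg, hxf⟩ := exists_basicOpen_le_affine_inter hU hV (𝒮.toQCAlg.π (𝒮.toQCAlg.ι U hU z))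
    ⟨hπ U hU z, hwz ▸ hπ V hV w⟩
  have hxf' : 𝒮.toQCAlg.ι U hU z ∈ 𝒮.toQCAlg.π ⁻¹ᵁ Y.basicOpen f := hxf
  rw [RelSpec.QCAlg.π_preimage _ _ (hU.basicOpen f)] at hxf'
  obtain ⟨t, ht⟩ := hxf'
  have hleV : Y.basicOpen f ≤ V := hfg.le.trans (Y.basicOpen_le g)
  have e1 := congr($(RelSpecLib.ι_res_le 𝒮.toQCAlg (hU.basicOpen f) hU (Y.basicOpen_le f)) t)
  have e2 := congr($(RelSpecLib.ι_res_le 𝒮.toQCAlg (hU.basicOpen f) hV hleV) t)
  rw [Scheme.Hom.comp_apply] at e1 e2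
  have h1 : Spec.map (𝒮.presheaf.map (homOfLE (Y.basicOpen_le f)).op) t = z :=
    (𝒮.toQCAlg.ι U hU).isOpenEmbedding.injective (e1.trans ht)
  have h2 : Spec.map (𝒮.presheaf.map (homOfLE hleV).op) t = w :=
    (𝒮.toQCAlg.ι V hV).isOpenEmbedding.injective (e2.trans (ht.trans hwz.symm))
  rw [← h1]
  exact vertexCompl_basicOpen 𝒮 hU f (vertexCompl_res 𝒮 hV (hU.basicOpen f) hleV (h2 ▸ hw))

end Groth.Agent.ConeDom
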